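import Cfsg.Agent.ETable.Base
import Cfsg.Agent.S1025
import Cfsg.Agent.ChevalleyStructure.SL2All
import Cfsg.Agent.ChevalleyStructure.SL2Hom
import Cfsg.Agent.ChevalleyStructure.Elts
import Cfsg.Prelude.Def_ChevF4
import Cfsg.Prelude.Def_ChevE6
import Cfsg.Prelude.Def_ChevE7
import Cfsg.Prelude.Def_ChevE8

-- merged: Cfsg.Agent.ETable.ExcBase
section

/-!
# Witnesses in groups generated by root elements (helper33)

* `El p k T E` : an elementary abelian `p`-group `E` of order at least `p ^ k` normalising `T`; `El.snoc` adds a generator.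
* `comm_terms` : two root elements without commutator terms commute; `SO D r s` : the four pairs `(± r, ± s)` are such.
* `z_pow_three`, `w_pow_four`, `w_ne_one`, `not_comm_odd`, `not_comm_two` : the elements `x_r(1) x_{-r}(1)`,
  `x_r(1) x_{-r}(-1) x_r(1)`.
* `wit_of_orth` : `Wit p 3 G` for a group `G` of matrices containing `x_{± r}(1)` for four pairwise orthogonal roots `r`.
-/

set_option autoImplicit false

namespace Cfsg.Agent.ETable.Exc

open Cfsg Cfsg.Lie Subgroup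
open Cfsg.Agent.ChevalleyStructure Cfsg.Agent.ChevalleyStructure.Elts
open Cfsg.Agent.ChevalleyStructure.SL2Rep Cfsg.Agent.ChevalleyStructure.SL2Hom

universe u

/-! ### Elementary abelian groups, one generator at a time -/

section El

variable {G : Type*} [Group G] {p k : ℕ} {T E : Subgroup G}

/-- an elementary abelian `p`-group of order at least `p ^ k` normalising `T` -/
structure El (p k : ℕ) (T E : Subgroup G) : Prop where
  comm : ∀ a ∈ E, ∀ b ∈ E, a * b = b * a
  exp : ∀ a ∈ E, a ^ p = 1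
  card : p ^ k ≤ Nat.card E
  norm : E ≤ normalizer (T : Set G)

theorem El.zero (T : Subgroup G) : El p 0 T ⊥ where
  comm := by
    intro a ha b hb
    rw [mem_bot] at ha hb
    rw [ha, hb]
  exp := by
    intro a ha
    rw [mem_bot] at ha
    rw [ha, one_pow]
  card := by rw [pow_zero, card_bot]
  norm := bot_le

theorem El.wit (h : El p k T E) (hT : IsPGroup 2 T) (hT1 : T ≠ ⊥) : Wit p k G :=
  ⟨T, E, hT, hT1, ⟨⟨fun a b => Subtype.ext (h.comm a a.2 b b.2)⟩⟩, h.exp, h.card, h.norm⟩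

theorem El.snoc [Finite G] (h : El p k T E) (hp : p.Prime) {x : G} (hx : x ^ p = 1) (hn : x ∈ normalizer (T : Set G))
    (hc : ∀ a ∈ E, a * x = x * a) (hxE : x ∉ E) : El p (k + 1) T (E ⊔ zpowers x) := by
  have hEx : E ≤ centralizer ((zpowers x : Subgroup G) : Set G) := by
    rw [le_centralizer_iff, zpowers_le, mem_centralizer_iff]
    exact hc
  have hdec : ∀ y ∈ E ⊔ zpowers x, ∃ a ∈ E, ∃ b ∈ zpowers x, a * b = y := by
    intro y hy
    have hle : zpowers x ≤ normalizer (E : Set G) :=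
      (le_centralizer_iff.mp hEx).trans (centralizer_le_normalizer _)
    have := Subgroup.coe_mul_of_right_le_normalizer_left E (zpowers x) hle
    rw [← SetLike.mem_coe, this] at hy
    obtain ⟨a, ha, b, hb, rfl⟩ := hy
    exact ⟨a, ha, b, hb, rfl⟩
  have hz : ∀ b ∈ zpowers x, ∀ c ∈ zpowers x, Commute b c := by
    rintro _ ⟨i, rfl⟩ _ ⟨j, rfl⟩
    exact Commute.zpow_zpow_self x i j
  have hez : ∀ a ∈ E, ∀ b ∈ zpowers x, Commute a b := fun a ha b hb =>
    (mem_centralizer_iff.mp (hEx ha) b hb).symm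
  refine ⟨?_, ?_, ?_, ?_⟩
  · intro y hy y' hy'
    obtain ⟨a, ha, b, hb, rfl⟩ := hdec y hy
    obtain ⟨a', ha', b', hb', rfl⟩ := hdec y' hy'
    have c1 : Commute a a' := h.comm a ha a' ha'
    have c2 : Commute a b' := hez a ha b' hb'
    have c3 : Commute b a' := (hez a' ha' b hb).symm
    have c4 : Commute b b' := hz b hb b' hb'
    exact ((c1.mul_right c2).mul_left (c3.mul_right c4)).eq
  · intro y hy
    obtain ⟨a, ha, b, hb, rfl⟩ := hdec y hy
    obtain ⟨i, rfl⟩ := hb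
    rw [(hez a ha _ ⟨i, rfl⟩).mul_pow, h.exp a ha, one_mul]
    show (x ^ i) ^ p = 1
    rw [← zpow_natCast, ← zpow_mul, mul_comm, zpow_mul, zpow_natCast, hx, one_zpow]
  · have hlt : E < E ⊔ zpowers x := by
      refine lt_of_le_of_ne le_sup_left fun h0 => hxE ?_
      rw [h0]
      exact mem_sup_right (mem_zpowers x)
    have h1 : Nat.card E * E.relIndex (E ⊔ zpowers x) = Nat.card (E ⊔ zpowers x : Subgroup G) := by
      have := relIndex_mul_relIndex ⊥ E (E ⊔ zpowers x) bot_le le_sup_left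
      rwa [relIndex_bot_left, relIndex_bot_left] at this
    have h2 : IsPGroup p (E ⊔ zpowers x : Subgroup G) := by
      intro y
      refine ⟨1, Subtype.ext ?_⟩
      rw [pow_one]
      obtain ⟨y, hy⟩ := y
      obtain ⟨a, ha, b, hb, rfl⟩ := hdec y hy
      obtain ⟨i, rfl⟩ := hb
      show (a * x ^ i) ^ p = 1
      rw [(hez a ha _ ⟨i, rfl⟩).mul_pow, h.exp a ha, one_mul]
      rw [← zpow_natCast, ← zpow_mul, mul_comm, zpow_mul, zpow_natCast, hx, one_zpow]
    have h3 : p ≤ E.relIndex (E ⊔ zpowers x) := by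
      have h4 : E.relIndex (E ⊔ zpowers x) ≠ 1 := by
        rw [Ne, Subgroup.relIndex_eq_one]
        exact not_le_of_gt hlt
      have hfact : Fact p.Prime := ⟨hp⟩
      obtain ⟨n, hn⟩ := h2.exists_card_eq
      have h5 : E.relIndex (E ⊔ zpowers x) ∣ p ^ n := by
        rw [← hn, ← h1]
        exact dvd_mul_left _ _
      obtain ⟨m, hm, hm'⟩ := (Nat.dvd_prime_pow hp).1 h5
      rw [hm'] at h4 ⊢
      have hm0 : m ≠ 0 := by
        rintro rfl
        exact h4 (pow_zero p)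
      calc p = p ^ 1 := (pow_one p).symm
        _ ≤ p ^ m := Nat.pow_le_pow_right hp.pos (Nat.one_le_iff_ne_zero.2 hm0)
    rw [← h1, pow_succ]
    exact Nat.mul_le_mul h.card h3
  · rw [sup_le_iff, zpowers_le]
    exact ⟨h.norm, hn⟩

/-- the same with a separating element -/
theorem El.snoc' [Finite G] (h : El p k T E) (hp : p.Prime) {x l : G} (hx : x ^ p = 1)
    (hn : x ∈ normalizer (T : Set G)) (hc : ∀ a ∈ E, a * x = x * a) (hl : E ≤ centralizer ({l} : Set G))
    (hxl : x * l ≠ l * x) : El p (k + 1) T (E ⊔ zpowers x) :=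
  h.snoc hp hx hn hc fun hxE => hxl (mem_centralizer_iff.mp (hl hxE) l rfl).symm

theorem mem_norm_of_comm {x t : G} (h : x * t = t * x) : x ∈ normalizer ((zpowers t : Subgroup G) : Set G) := by
  have h1 : x ∈ centralizer ((zpowers t : Subgroup G) : Set G) := by
    rw [← zpowers_le, le_centralizer_iff, zpowers_le, mem_centralizer_iff]
    rintro _ ⟨i, rfl⟩
    exact ((show Commute x t from h).zpow_left i).eq
  exact centralizer_le_normalizer _ h1

end El

/-! ### Root elements -/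

variable {D : ChevalleyDatum} {F : Type u} [Field F]

theorem comm_terms (hD : InList D) {r s : ℕ} (hr : r < D.nroots) (hs : s < D.nroots) (hrs : s ≠ r) (hneg : s ≠ D.neg r)
    (h : D.commTerms r s = []) (t u : F) : xG hD r t * xG hD s u = xG hD s u * xG hD r t := by
  apply Units.ext
  have h1 := Cfsg.Agent.S1025.result (F := F) D hD r s hr hs hrs hneg t u
  rw [ChevalleyDatum.commWord, h, List.map_nil, wordMat_nil, mul_one] at h1
  exact h1.symm

/-- the pair of roots `r`, `s` is strongly orthogonal (from the tables) -/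
def so (D : ChevalleyDatum) (r s : ℕ) : Bool :=
  Nat.blt r D.nroots && Nat.blt s D.nroots && !(Nat.beq s r) && !(Nat.beq s (D.neg r)) && (D.commTerms r s).isEmpty

/-- both signs -/
def SO (D : ChevalleyDatum) (r s : ℕ) : Prop :=
  so D r s = true ∧ so D r (D.neg s) = true ∧ so D (D.neg r) s = true ∧ so D (D.neg r) (D.neg s) = true

instance (D : ChevalleyDatum) (r s : ℕ) : Decidable (SO D r s) := by unfold SO; infer_instance

theorem comm_of_so (hD : InList D) {r s : ℕ} (h : so D r s = true) (t u : F) :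
    xG hD r t * xG hD s u = xG hD s u * xG hD r t := by
  unfold so at h
  rw [Bool.and_eq_true, Bool.and_eq_true, Bool.and_eq_true, Bool.and_eq_true, Nat.blt_eq, Nat.blt_eq,
    Bool.not_eq_true', Bool.not_eq_true', List.isEmpty_iff] at h
  obtain ⟨⟨⟨⟨h1, h2⟩, h3⟩, h4⟩, h5⟩ := h
  exact comm_terms hD h1 h2 (fun h => by rw [h, Nat.beq_refl] at h3; exact absurd h3 (by decide))
    (fun h => by rw [h, Nat.beq_refl] at h4; exact absurd h4 (by decide)) h5 t u

section Phi

variable (hD : InList D) {r : ℕ} (hr : r < D.nroots)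

include hr in
theorem phi_up (t : F) : phi (SL2All.good_of_mem D hD r hr) F (up t) = xG hD r t :=
  Units.ext (phi_upper _ _ t rfl)

include hr in
theorem phi_lo (t : F) : phi (SL2All.good_of_mem D hD r hr) F (lo t) = xG hD (D.neg r) t :=
  Units.ext (phi_lower _ _ t rfl)

/-- the first column of the representation -/
theorem phi_sep {D : ChevalleyDatum} {r : ℕ} (hG : Good D r) {g g' : Matrix.SpecialLinearGroup (Fin 2) F}
    (h : phi hG F g = phi hG F g') :
    g.1 0 0 ^ 2 = g'.1 0 0 ^ 2 ∧ ((2 : F) ≠ 0 → g.1 0 0 * g.1 1 0 = g'.1 0 0 * g'.1 1 0) := by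
  have h1 : (Phi D r (g.1 0 0) (g.1 0 1) (g.1 1 0) (g.1 1 1)).mulVec (eV D F r) =
      (Phi D r (g'.1 0 0) (g'.1 0 1) (g'.1 1 0) (g'.1 1 1)).mulVec (eV D F r) := by
    rw [← coe_phi hG, ← coe_phi hG, h]
  rw [Phi_mulVec_eV _ _ _ _ _ _ _ hG.lt, Phi_mulVec_eV _ _ _ _ _ _ _ hG.lt, colE, colE, if_pos rfl, if_pos rfl] at h1
  constructor
  · have h2 := congrFun h1 (Sum.inr ⟨r, hG.lt⟩)
    have h3 : eV D F r (Sum.inr ⟨r, hG.lt⟩) = 1 := by simp [eV]
    have h4 : eV D F (D.neg r) (Sum.inr ⟨r, hG.lt⟩) = 0 := by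
      have := hG.neg_ne
      simp [eV, Ne.symm this]
    have h5 : hR D F r (Sum.inr ⟨r, hG.lt⟩) = 0 := rfl
    simp only [Pi.sub_apply, Pi.smul_apply, smul_eq_mul, h3, h4, h5, mul_one, mul_zero, sub_zero] at h2
    exact h2
  · intro h2
    have h3 : ∀ i : Fin D.rank, (g.1 0 0 * g.1 1 0) * ((cor D r i : ℤ) : F) =
        (g'.1 0 0 * g'.1 1 0) * ((cor D r i : ℤ) : F) := by
      intro i
      have h4 := congrFun h1 (Sum.inl i)
      have h5 : eV D F r (Sum.inl i) = 0 := rfl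
      have h6 : eV D F (D.neg r) (Sum.inl i) = 0 := rfl
      have h7 : hR D F r (Sum.inl i) = ((cor D r i : ℤ) : F) := rfl
      simp only [Pi.sub_apply, Pi.smul_apply, smul_eq_mul, h5, h6, h7, mul_zero, sub_zero, zero_sub, neg_inj] at h4
      exact h4
    have h4 : (2 : F) = ∑ i : Fin D.rank, ((cor D r i : ℤ) : F) * ((D.cartan i r : ℤ) : F) := by
      have := congrArg (fun z : ℤ => (z : F)) hG.pairing
      simp only [Int.cast_sum, Int.cast_mul, Int.cast_ofNat] at this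
      exact this.symm
    have h5 : (g.1 0 0 * g.1 1 0) * 2 = (g'.1 0 0 * g'.1 1 0) * 2 := by
      rw [h4, Finset.mul_sum, Finset.mul_sum]
      refine Finset.sum_congr rfl fun i _ => ?_
      rw [← mul_assoc, h3 i, mul_assoc]
    exact mul_right_cancel₀ h2 h5

include hr in
/-- in characteristic two `x_r(1) x_{-r}(1)` has order 3 -/
theorem z_pow_three (h2 : (2 : F) = 0) : (xG (F := F) hD r 1 * xG hD (D.neg r) 1) ^ 3 = 1 := by
  rw [← phi_up hD hr, ← phi_lo hD hr, ← map_mul, ← map_pow, ← map_one (phi (SL2All.good_of_mem D hD r hr) F)]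
  congr 1
  apply Subtype.ext
  have h1 : ((up (1 : F) * lo 1 : Matrix.SpecialLinearGroup (Fin 2) F) : Matrix (Fin 2) (Fin 2) F) =
      !![0, 1; 1, 1] := by
    show !![1, 1; 0, 1] * !![1, 0; 1, 1] = !![0, 1; 1, 1]
    ext i j
    fin_cases i <;> fin_cases j <;> simp [Matrix.mul_apply, Fin.sum_univ_two, one_add_one_eq_two, h2]
  rw [Matrix.SpecialLinearGroup.coe_pow, h1]
  show !![(0 : F), 1; 1, 1] ^ 3 = 1
  rw [pow_succ, pow_two]
  ext i j
  fin_cases i <;> fin_cases j <;>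
    simp [Matrix.mul_apply, Fin.sum_univ_two, one_add_one_eq_two, h2]

include hr in
theorem not_comm_odd (h2 : (2 : F) ≠ 0) :
    xG (F := F) hD r 1 * xG hD (D.neg r) 1 ≠ xG hD (D.neg r) 1 * xG hD r 1 := by
  rw [← phi_up hD hr, ← phi_lo hD hr, ← map_mul, ← map_mul]
  intro h
  obtain ⟨h3, h4⟩ := phi_sep _ h
  have h5 := h4 h2
  have e1 : ((up (1 : F) * lo 1 : Matrix.SpecialLinearGroup (Fin 2) F) : Matrix (Fin 2) (Fin 2) F) =
      !![2, 1; 1, 1] := by
    show !![1, 1; 0, 1] * !![1, 0; 1, 1] = !![2, 1; 1, 1]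
    ext i j
    fin_cases i <;> fin_cases j <;> simp [Matrix.mul_apply, Fin.sum_univ_two, one_add_one_eq_two]
  have e2 : ((lo (1 : F) * up 1 : Matrix.SpecialLinearGroup (Fin 2) F) : Matrix (Fin 2) (Fin 2) F) =
      !![1, 1; 1, 2] := by
    show !![1, 0; 1, 1] * !![1, 1; 0, 1] = !![1, 1; 1, 2]
    ext i j
    fin_cases i <;> fin_cases j <;> simp [Matrix.mul_apply, Fin.sum_univ_two, one_add_one_eq_two]
  rw [e1, e2] at h5
  have h6 : (2 : F) = 1 := by simpa using h5
  have h7 : (1 : F) = 0 := by linear_combination h6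
  exact one_ne_zero h7

include hr in
theorem not_comm_two (h2 : (2 : F) = 0) :
    (xG (F := F) hD r 1 * xG hD (D.neg r) 1) * xG hD r 1 ≠ xG hD r 1 * (xG hD r 1 * xG hD (D.neg r) 1) := by
  rw [← phi_up hD hr, ← phi_lo hD hr, ← map_mul, ← map_mul, ← map_mul]
  intro h
  obtain ⟨h3, -⟩ := phi_sep _ h
  have e1 : ((up (1 : F) * lo 1 * up 1 : Matrix.SpecialLinearGroup (Fin 2) F) : Matrix (Fin 2) (Fin 2) F) 0 0 = 0 := by
    show (!![(1 : F), 1; 0, 1] * !![1, 0; 1, 1] * !![1, 1; 0, 1] : Matrix (Fin 2) (Fin 2) F) 0 0 = 0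
    simp [Matrix.mul_apply, Fin.sum_univ_two, one_add_one_eq_two, h2]
  have e2 : ((up (1 : F) * (up 1 * lo 1) : Matrix.SpecialLinearGroup (Fin 2) F) : Matrix (Fin 2) (Fin 2) F) 0 0 = 1 := by
    show (!![(1 : F), 1; 0, 1] * (!![1, 1; 0, 1] * !![1, 0; 1, 1]) : Matrix (Fin 2) (Fin 2) F) 0 0 = 1
    simp [Matrix.mul_apply, Fin.sum_univ_two, one_add_one_eq_two, h2]
  rw [e1, e2] at h3
  simp at h3

/-- `x_r(1) x_{-r}(-1) x_r(1)` -/
def wG (hD : InList D) (F : Type u) [Field F] (r : ℕ) : GL D.Idx F := xG hD r 1 * (xG hD (D.neg r) 1)⁻¹ * xG hD r 1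

include hr in
theorem wG_eq : wG hD F r = phi (SL2All.good_of_mem D hD r hr) F (up 1 * (lo 1)⁻¹ * up 1) := by
  rw [map_mul, map_mul, map_inv, phi_up hD hr, phi_lo hD hr]; rfl

theorem up_lo_up : ((up (1 : F) * (lo 1)⁻¹ * up 1 : Matrix.SpecialLinearGroup (Fin 2) F) : Matrix (Fin 2) (Fin 2) F) =
    !![0, 1; -1, 0] := by
  have h1 : ((lo (1 : F))⁻¹ : Matrix.SpecialLinearGroup (Fin 2) F) = lo (-1) := by
    rw [inv_eq_iff_mul_eq_one]
    apply Subtype.ext
    show !![(1 : F), 0; 1, 1] * !![1, 0; -1, 1] = 1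
    ext i j
    fin_cases i <;> fin_cases j <;> simp [Matrix.mul_apply, Fin.sum_univ_two]
  rw [h1]
  show !![(1 : F), 1; 0, 1] * !![1, 0; -1, 1] * !![1, 1; 0, 1] = !![0, 1; -1, 0]
  ext i j
  fin_cases i <;> fin_cases j <;> simp [Matrix.mul_apply, Fin.sum_univ_two]

include hr in
theorem wG_pow_four : wG hD F r ^ 4 = 1 := by
  rw [wG_eq hD hr, ← map_pow, ← map_one (phi (SL2All.good_of_mem D hD r hr) F)]
  congr 1
  apply Subtype.ext
  rw [Matrix.SpecialLinearGroup.coe_pow, up_lo_up]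
  show !![(0 : F), 1; -1, 0] ^ 4 = 1
  rw [pow_succ, pow_succ, pow_two]
  ext i j
  fin_cases i <;> fin_cases j <;> simp [Matrix.mul_apply, Fin.sum_univ_two]

include hr in
theorem wG_ne_one : wG hD F r ≠ 1 := by
  rw [wG_eq hD hr, ← map_one (phi (SL2All.good_of_mem D hD r hr) F)]
  intro h
  obtain ⟨h3, -⟩ := phi_sep _ h
  rw [up_lo_up] at h3
  simp at h3

end Phi

theorem xG_pow (hD : InList D) (r : ℕ) (n : ℕ) : xG (F := F) hD r 1 ^ n = xG hD r (n : F) := by
  induction n with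
  | zero => rw [pow_zero, Nat.cast_zero, xG_zero]
  | succ n ih => rw [pow_succ, ih, xG_add, Nat.cast_succ]

/-! ### Four pairwise orthogonal roots -/

/-- `β 0, β 1, …` are pairwise strongly orthogonal roots -/
structure Orth (D : ChevalleyDatum) {n : ℕ} (β : Fin n → ℕ) : Prop where
  lt : ∀ i, β i < D.nroots
  so : ∀ i j, i ≠ j → SO D (β i) (β j)

section Fam

variable {n : ℕ} {β : Fin n → ℕ} {G : Type*} [Group G] (hD : InList D)

/-- a family of pairs `x i`, `y i` of elements of `G` mapped to `x_r(1)`, `x_{-r}(1)`, `r = β i` -/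
structure Fam (F : Type u) [Field F] (β : Fin n → ℕ) (ψ : G →* GL D.Idx F) (x y : Fin n → G) : Prop where
  inj : Function.Injective ψ
  hx : ∀ i, ψ (x i) = xG hD (β i) 1
  hy : ∀ i, ψ (y i) = xG hD (D.neg (β i)) 1

variable {hD} {ψ : G →* GL D.Idx F} {x y : Fin n → G}

theorem Fam.comm (h : Fam hD F β ψ x y) (hβ : Orth D β) {i j : Fin n} (hij : i ≠ j) :
    x i * x j = x j * x i ∧ x i * y j = y j * x i ∧ y i * x j = x j * y i ∧ y i * y j = y j * y i := by
  obtain ⟨h1, h2, h3, h4⟩ := hβ.so i j hij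
  refine ⟨h.inj ?_, h.inj ?_, h.inj ?_, h.inj ?_⟩ <;> rw [map_mul, map_mul]
  · rw [h.hx, h.hx]; exact comm_of_so hD h1 _ _
  · rw [h.hx, h.hy]; exact comm_of_so hD h2 _ _
  · rw [h.hy, h.hx]; exact comm_of_so hD h3 _ _
  · rw [h.hy, h.hy]; exact comm_of_so hD h4 _ _

/-- the element `x_r(1) x_{-r}(-1) x_r(1)` of `G` -/
def w (x y : Fin n → G) (i : Fin n) : G := x i * (y i)⁻¹ * x i

theorem Fam.map_w (h : Fam hD F β ψ x y) (i : Fin n) : ψ (w x y i) = wG hD F (β i) := by
  unfold w wG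
  rw [map_mul, map_mul, map_inv, h.hx, h.hy]

theorem Fam.w_ne (h : Fam hD F β ψ x y) (hβ : Orth D β) (i : Fin n) : w x y i ≠ 1 := by
  intro h0
  have h1 := h.map_w i
  rw [h0, map_one] at h1
  exact wG_ne_one hD (hβ.lt i) h1.symm

theorem Fam.w_four (h : Fam hD F β ψ x y) (hβ : Orth D β) (i : Fin n) : w x y i ^ 4 = 1 := by
  apply h.inj
  rw [map_pow, h.map_w, wG_pow_four hD (hβ.lt i), map_one]

/-- the 2-group generated by `w i` -/
theorem Fam.isPGroup_w (h : Fam hD F β ψ x y) (hβ : Orth D β) (i : Fin n) : IsPGroup 2 (zpowers (w x y i)) := by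
  rintro ⟨_, j, rfl⟩
  refine ⟨2, Subtype.ext ?_⟩
  show (w x y i ^ j) ^ (2 ^ 2) = 1
  rw [← zpow_natCast, ← zpow_mul, mul_comm, zpow_mul, zpow_natCast]
  norm_num
  rw [h.w_four hβ, one_zpow]

theorem Fam.x_comm_w (h : Fam hD F β ψ x y) (hβ : Orth D β) {i j : Fin n} (hij : i ≠ j) :
    x i * w x y j = w x y j * x i ∧ y i * w x y j = w x y j * y i := by
  obtain ⟨h1, h2, h3, h4⟩ := h.comm hβ hij
  have c1 : Commute (x i) (x j) := h1
  have c2 : Commute (x i) (y j) := h2
  have c3 : Commute (y i) (x j) := h3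
  have c4 : Commute (y i) (y j) := h4
  exact ⟨((c1.mul_right c2.inv_right).mul_right c1).eq, ((c3.mul_right c4.inv_right).mul_right c3).eq⟩

/-- **Characteristic two**: `n` pairwise orthogonal roots and a 2-group `T` normalised by all `x_{± r}(1)`. -/
theorem Fam.el_two [Finite G] (h : Fam hD F β ψ x y) (hβ : Orth D β) (h2 : (2 : F) = 0) (T : Subgroup G)
    (k : ℕ) (hk : k ≤ n) (hT : ∀ i : Fin n, (i : ℕ) < k → x i ∈ normalizer (T : Set G) ∧ y i ∈ normalizer (T : Set G)) :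
    ∃ E : Subgroup G, El 3 k T E ∧ (∀ g : G, (∀ i : Fin n, (i : ℕ) < k → x i * g = g * x i ∧ y i * g = g * y i) →
      E ≤ centralizer ({g} : Set G)) := by
  induction k with
  | zero => exact ⟨⊥, El.zero T, fun _ _ => bot_le⟩
  | succ k ih =>
    obtain ⟨E, hE, hc⟩ := ih (by omega) (fun i hi => hT i (by omega))
    have hkn : k < n := hk
    set i : Fin n := ⟨k, hkn⟩ with hi
    have hij : ∀ j : Fin n, (j : ℕ) < k → j ≠ i := by
      rintro j hj rfl
      exact absurd hj (lt_irrefl _)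
    have hx : ∀ g : G, (∀ j : Fin n, (j : ℕ) < k → x j * g = g * x j ∧ y j * g = g * y j) → ∀ a ∈ E, a * g = g * a :=
      fun g hg a ha => (mem_centralizer_iff.mp (hc g hg ha) g rfl).symm
    have cx : ∀ a ∈ E, a * x i = x i * a := hx _ fun j hj =>
      ⟨(h.comm hβ (hij j hj)).1, (h.comm hβ (hij j hj)).2.2.1⟩
    have cy : ∀ a ∈ E, a * y i = y i * a := hx _ fun j hj =>
      ⟨(h.comm hβ (hij j hj)).2.1, (h.comm hβ (hij j hj)).2.2.2⟩
    refine ⟨E ⊔ zpowers (x i * y i), ?_, ?_⟩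
    · refine hE.snoc' Nat.prime_three (x := x i * y i) (l := x i) ?_ ?_ ?_ ?_ ?_
      · apply h.inj
        rw [map_pow, map_mul, h.hx, h.hy, map_one]
        exact z_pow_three hD (hβ.lt i) h2
      · exact mul_mem (hT i (by rw [hi]; exact Nat.lt_succ_self k)).1 (hT i (by rw [hi]; exact Nat.lt_succ_self k)).2
      · intro a ha
        rw [← mul_assoc, cx a ha, mul_assoc, cy a ha, mul_assoc]
      · exact hc _ fun j hj => ⟨(h.comm hβ (hij j hj)).1, (h.comm hβ (hij j hj)).2.2.1⟩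
      · intro h0
        have h1 := congrArg ψ h0
        rw [map_mul, map_mul, map_mul ψ (x i) (x i * y i), map_mul, h.hx, h.hy] at h1
        exact not_comm_two hD (hβ.lt i) h2 h1
    · intro g hg
      rw [sup_le_iff, zpowers_le]
      refine ⟨hc g fun j hj => hg j (by omega), ?_⟩
      rw [mem_centralizer_iff]
      rintro _ rfl
      obtain ⟨h3, h4⟩ := hg i (by rw [hi]; exact Nat.lt_succ_self k)
      rw [mul_assoc, h4, ← mul_assoc, ← mul_assoc, h3]

/-- **Odd characteristic** `p`: the same with the elements `x_r(1)`. -/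
theorem Fam.el_odd [Finite G] (h : Fam hD F β ψ x y) (hβ : Orth D β) {p : ℕ} (hp : p.Prime) (hF : (p : F) = 0)
    (h2 : (2 : F) ≠ 0) (T : Subgroup G)
    (k : ℕ) (hk : k ≤ n) (hT : ∀ i : Fin n, (i : ℕ) < k → x i ∈ normalizer (T : Set G)) :
    ∃ E : Subgroup G, El p k T E ∧ (∀ g : G, (∀ i : Fin n, (i : ℕ) < k → x i * g = g * x i) →
      E ≤ centralizer ({g} : Set G)) := by
  induction k with
  | zero => exact ⟨⊥, El.zero T, fun _ _ => bot_le⟩
  | succ k ih =>
    obtain ⟨E, hE, hc⟩ := ih (by omega) (fun i hi => hT i (by omega))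
    have hkn : k < n := hk
    set i : Fin n := ⟨k, hkn⟩ with hi
    have hij : ∀ j : Fin n, (j : ℕ) < k → j ≠ i := by
      rintro j hj rfl
      exact absurd hj (lt_irrefl _)
    have hx : ∀ g : G, (∀ j : Fin n, (j : ℕ) < k → x j * g = g * x j) → ∀ a ∈ E, a * g = g * a :=
      fun g hg a ha => (mem_centralizer_iff.mp (hc g hg ha) g rfl).symm
    refine ⟨E ⊔ zpowers (x i), ?_, ?_⟩
    · refine hE.snoc' hp (x := x i) (l := y i) ?_ ?_ ?_ ?_ ?_
      · apply h.inj
        rw [map_pow, h.hx, map_one, xG_pow, hF, xG_zero]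
      · exact hT i (by rw [hi]; exact Nat.lt_succ_self k)
      · exact hx _ fun j hj => (h.comm hβ (hij j hj)).1
      · exact hc _ fun j hj => (h.comm hβ (hij j hj)).2.1
      · intro h0
        have h1 := congrArg ψ h0
        rw [map_mul, map_mul, h.hx, h.hy] at h1
        exact not_comm_odd hD (hβ.lt i) h2 h1
    · intro g hg
      rw [sup_le_iff, zpowers_le]
      refine ⟨hc g fun j hj => hg j (by omega), ?_⟩
      rw [mem_centralizer_iff]
      rintro _ rfl
      exact (hg i (by rw [hi]; exact Nat.lt_succ_self k)).symm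

/-- **`k + 1` pairwise orthogonal roots** in characteristic two. -/
theorem Fam.wit_two {k : ℕ} {β : Fin (k + 1) → ℕ} {x y : Fin (k + 1) → G} [Finite G] (h : Fam hD F β ψ x y)
    (hβ : Orth D β) (h2 : (2 : F) = 0) : Wit 3 k G := by
  obtain ⟨E, hE, -⟩ := h.el_two hβ h2 (zpowers (w x y (Fin.last k))) k (by omega) (fun i hi => by
    have hij : i ≠ Fin.last k := by
      rintro rfl
      exact absurd hi (lt_irrefl _)
    exact ⟨mem_norm_of_comm (h.x_comm_w hβ hij).1, mem_norm_of_comm (h.x_comm_w hβ hij).2⟩)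
  refine hE.wit (h.isPGroup_w hβ _) ?_
  rw [Ne, zpowers_eq_bot]
  exact h.w_ne hβ _

/-- **`k + 1` pairwise orthogonal roots** in odd characteristic `p`. -/
theorem Fam.wit_odd {k : ℕ} {β : Fin (k + 1) → ℕ} {x y : Fin (k + 1) → G} [Finite G] (h : Fam hD F β ψ x y)
    (hβ : Orth D β) {p : ℕ} (hp : p.Prime) (hF : (p : F) = 0) (h2 : (2 : F) ≠ 0) : Wit p k G := by
  obtain ⟨E, hE, -⟩ := h.el_odd hβ hp hF h2 (zpowers (w x y (Fin.last k))) k (by omega) (fun i hi => by
    have hij : i ≠ Fin.last k := by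
      rintro rfl
      exact absurd hi (lt_irrefl _)
    exact mem_norm_of_comm (h.x_comm_w hβ hij).1)
  refine hE.wit (h.isPGroup_w hβ _) ?_
  rw [Ne, zpowers_eq_bot]
  exact h.w_ne hβ _

/-- the family in a group of matrices -/
theorem fam_of_mem {H : Subgroup (GL D.Idx F)} (hD : InList D) (β : Fin n → ℕ) (hx : ∀ i, xG hD (β i) 1 ∈ H)
    (hy : ∀ i, xG hD (D.neg (β i)) 1 ∈ H) :
    Fam hD F β H.subtype (fun i => ⟨_, hx i⟩) (fun i => ⟨_, hy i⟩) :=
  ⟨Subtype.val_injective, fun _ => rfl, fun _ => rfl⟩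

end Fam

/-- **Four orthogonal roots, any finite field**: some odd prime `p` with `Wit p 3`. -/
theorem wit_of_orth [Finite F] {k : ℕ} {β : Fin (k + 1) → ℕ} {H : Subgroup (GL D.Idx F)} (hD : InList D) (hβ : Orth D β)
    (hx : ∀ i, xG hD (β i) 1 ∈ H) (hy : ∀ i, xG hD (D.neg (β i)) 1 ∈ H) :
    ∃ p, p.Prime ∧ p ≠ 2 ∧ Wit p k H := by
  by_cases h2 : (2 : F) = 0
  · exact ⟨3, Nat.prime_three, by norm_num, (fam_of_mem hD β hx hy).wit_two hβ h2⟩
  · obtain ⟨p, hp⟩ := CharP.exists F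
    have hpp : p.Prime := CharP.char_is_prime F p
    refine ⟨p, hpp, ?_, (fam_of_mem hD β hx hy).wit_odd hβ hpp (CharP.cast_eq_zero F p) h2⟩
    rintro rfl
    exact h2 (CharP.cast_eq_zero F 2)

end Cfsg.Agent.ETable.Exc

end

-- merged: Cfsg.Agent.ETable.Exc
section

/-!
# `F4`, `E6`, `E7`, `E8` over any finite field (helper33)

* `f4`, `e6`, `e7`, `e8` : `∃ p, p.Prime ∧ p ≠ 2 ∧ Wit p 3 (chev…group F)` (all finite `F`);
* `e7_four`, `e8_four` : `Wit … 4`, all finite `F`; `e7_three_four`, `e8_three_four` : `Wit 3 4` in characteristic two.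
-/

set_option autoImplicit false

namespace Cfsg.Agent.ETable.Exc

open Cfsg Cfsg.Lie Subgroup
open Cfsg.Agent.ChevalleyStructure Cfsg.Agent.ChevalleyStructure.Elts

universe u

variable (F : Type u) [Field F]

theorem inList_F4 : InList chevF4 := by simp [InList]
theorem inList_E6 : InList chevE6 := by simp [InList]
theorem inList_E7 : InList chevE7 := by simp [InList]
theorem inList_E8 : InList chevE8 := by simp [InList]
theorem inList_D4 : InList chevD4 := by simp [InList]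
theorem inList_G2 : InList chevG2 := by simp [InList]

theorem orth_F4 : Orth chevF4 ![24, 32, 43, 45] := ⟨by decide +kernel, by decide +kernel⟩
theorem orth_E6 : Orth chevE6 ![36, 39, 50, 55] := ⟨by decide +kernel, by decide +kernel⟩
theorem orth_E7 : Orth chevE7 ![63, 66, 73, 78, 87] := ⟨by decide +kernel, by decide +kernel⟩
theorem orth_E8 : Orth chevE8 ![120, 123, 130, 147, 156] := ⟨by decide +kernel, by decide +kernel⟩

/-- **F4(q), all `q`.** -/
theorem f4 [Finite F] : ∃ p, p.Prime ∧ p ≠ 2 ∧ Wit p 3 (chevF4.group F) :=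
  wit_of_orth inList_F4 orth_F4 (fun _ => xG_mem_group _ _ _) fun _ => xG_mem_group _ _ _

/-- **E6(q), all `q`.** -/
theorem e6 [Finite F] : ∃ p, p.Prime ∧ p ≠ 2 ∧ Wit p 3 (chevE6.group F) :=
  wit_of_orth inList_E6 orth_E6 (fun _ => xG_mem_group _ _ _) fun _ => xG_mem_group _ _ _

/-- **E7(q), all `q`.** -/
theorem e7_four [Finite F] : ∃ p, p.Prime ∧ p ≠ 2 ∧ Wit p 4 (chevE7.group F) :=
  wit_of_orth inList_E7 orth_E7 (fun _ => xG_mem_group _ _ _) fun _ => xG_mem_group _ _ _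

theorem e7 [Finite F] : ∃ p, p.Prime ∧ p ≠ 2 ∧ Wit p 3 (chevE7.group F) := by
  obtain ⟨p, hp, hp2, h⟩ := e7_four F
  exact ⟨p, hp, hp2, h.mono hp.one_lt.le (by norm_num)⟩

/-- **E8(q), all `q`.** -/
theorem e8_four [Finite F] : ∃ p, p.Prime ∧ p ≠ 2 ∧ Wit p 4 (chevE8.group F) :=
  wit_of_orth inList_E8 orth_E8 (fun _ => xG_mem_group _ _ _) fun _ => xG_mem_group _ _ _

theorem e8 [Finite F] : ∃ p, p.Prime ∧ p ≠ 2 ∧ Wit p 3 (chevE8.group F) := by
  obtain ⟨p, hp, hp2, h⟩ := e8_four F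
  exact ⟨p, hp, hp2, h.mono hp.one_lt.le (by norm_num)⟩

theorem e7_three_four [Finite F] (h2 : (2 : F) = 0) : Wit 3 4 (chevE7.group F) :=
  (fam_of_mem inList_E7 _ (fun _ => xG_mem_group _ _ _) fun _ => xG_mem_group _ _ _).wit_two orth_E7 h2

theorem e8_three_four [Finite F] (h2 : (2 : F) = 0) : Wit 3 4 (chevE8.group F) :=
  (fam_of_mem inList_E8 _ (fun _ => xG_mem_group _ _ _) fun _ => xG_mem_group _ _ _).wit_two orth_E8 h2

end Cfsg.Agent.ETable.Exc

end
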